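import Cfsg.Agent.H935.Meet.CoOne
import Cfsg.Agent.Co2Type.FactsClass
import Cfsg.Agent.KFacts.CoInv.TwoMono
import Cfsg.Agent.Leech.Dot16Trans
import Cfsg.Agent.CpAutBig.CoZero

/-!
# Trivial intersections of Sylow 2-subgroups: Co2 from M22:2

`H = 2^10:M22:2` is the stabiliser of the standard frame in `Co2`.
-/

set_option autoImplicit false

namespace Cfsg.Agent.H935.Meet.CoTwo

open Cfsg Cfsg.Spor
open Cfsg.Agent.H68.MeetB
open Cfsg.Agent.SporadicA.GolayBase Cfsg.Agent.SporadicA.GolayPerm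
open Cfsg.Agent.SporadicStructure.M24El
open Cfsg.Agent.MonsterU.CoFrame Cfsg.Agent.MonsterU.CoFrameAct
open Cfsg.Agent.SporadicA.Co0Mono
open Cfsg.Agent.SporadicA.Co1Simple
open Cfsg.Agent.SporadicStructure.Co0Base (e8 e8_coe)
open Cfsg.Agent.CoOneType.CoOneE (pr pr_surjective E mem_E)
open Cfsg.Agent.CoOneType.SignFacts
open Cfsg.Agent.MonsterU.Lam2 (L2 cl cl_surjective cl_eq smul_cl IsType)
open Cfsg.Agent.MonsterU.CoFrameL2 (f0 pr_smul pr_smul_cl)
open Cfsg.Agent.MonsterU.CoFrameF (F toM24 toM24_surjective toM24_eq toM24_eq_one_iff pr_mem_F)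
open Cfsg.Agent.Co2Type.Mono (cd toCo0 toCo0_injective toCo0_smul exists_toCo0 mo mo2 toCo0_mo2 inE okP okP_iff inE_zero
  exists_el ok_of_okP)
open scoped Pointwise
open Cfsg.Agent.H935.Meet.CoOne (oddVec sqNorm_oddVec oddVec_not_mem sign_not_cong)

/-- the stabiliser of the frame -/
def H : Subgroup Spor.Co2 := N.comap toCo0

theorem mem_H {g : Spor.Co2} : g ∈ H ↔ toCo0 g ∈ N := Iff.rfl

theorem mo_mem_N (m P : ℕ) : mo m P ∈ N := N.mul_mem (sign_mem_N _) (perm_mem_N _)

theorem mo2_mem_H {m P : ℕ} (hm : inE m = true) (hP : okP P = true) : mo2 m P ∈ H := by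
  rw [mem_H, toCo0_mo2 hm hP]
  exact mo_mem_N m P

theorem T_le_H : Cfsg.Agent.Co2Type.TGroup.T ≤ H := by
  intro g hg
  obtain ⟨m, P, hm, hP, rfl⟩ := Cfsg.Agent.Co2Type.TGroup.mem_T_iff.1 hg
  by_cases h : okP P = true
  · exact mo2_mem_H hm h
  · have : mo2 m P = 1 := by
      unfold mo2
      rw [dif_neg (fun h' => h h'.2)]
    rw [this]
    exact H.one_mem

theorem odd_index_H : ¬ 2 ∣ H.index := fun h =>
  Cfsg.Agent.Co2Type.FactsClass.odd_index (h.trans (Subgroup.index_dvd_of_le T_le_H))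

/-- the stabiliser of the duad `{∞, 0}` in `M24` -/
def D22 : Subgroup (Equiv.Perm GolayPt) :=
  M24 ⊓ MulAction.stabilizer (Equiv.Perm GolayPt) ({none, some 0} : Set GolayPt)

theorem mem_stab {σ : Equiv.Perm GolayPt} :
    σ ∈ MulAction.stabilizer (Equiv.Perm GolayPt) ({none, some 0} : Set GolayPt) ↔
      (σ none = none ∧ σ (some 0) = some 0) ∨ (σ none = some 0 ∧ σ (some 0) = none) := by
  rw [MulAction.mem_stabilizer_iff, Set.smul_set_insert, Set.smul_set_singleton, Equiv.Perm.smul_def,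
    Equiv.Perm.smul_def, Set.pair_eq_pair_iff]

/-- the map to `M24` -/
noncomputable def pi0 : H →* M24 :=
  toM24.comp ((pr.comp (toCo0.comp H.subtype)).codRestrict F fun y => pr_mem_F.2 y.2)

theorem pi0_eq {y : H} {m P : ℕ} (hm : inE m = true) (hP : okP P = true) (hy : (y : Spor.Co2) = mo2 m P) :
    pi0 y = el P := by
  refine toM24_eq (c := cd m) ?_
  show pr (toCo0 (y : Spor.Co2)) = _
  rw [hy, toCo0_mo2 hm hP]
  rfl

theorem idx_none : idx (none : GolayPt) = 23 := rfl
theorem idx_zero : idx (some 0 : GolayPt) = 0 := rfl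

theorem okP_iff_mem {P : ℕ} (hP : ok P = true) : okP P = true ↔ (el P : Equiv.Perm GolayPt) ∈ D22 := by
  have h1 : ∀ a b : GolayPt, (el P : Equiv.Perm GolayPt) a = b ↔ papp P (idx a) = idx b := by
    intro a b
    rw [coe_el hP, ← idx_permOf (ok_iff.1 hP).1]
    exact ⟨fun h => by rw [h], fun h => idx_injective h⟩
  rw [okP_iff, D22, Subgroup.mem_inf, mem_stab, h1, h1, h1, h1, idx_none, idx_zero]
  constructor
  · rintro ⟨-, ⟨h, h'⟩ | ⟨h, h'⟩⟩
    · exact ⟨(el P).2, Or.inl ⟨h', h⟩⟩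
    · exact ⟨(el P).2, Or.inr ⟨h', h⟩⟩
  · rintro ⟨-, ⟨h, h'⟩ | ⟨h, h'⟩⟩
    · exact ⟨hP, Or.inl ⟨h', h⟩⟩
    · exact ⟨hP, Or.inr ⟨h', h⟩⟩

theorem pi0_mem (y : H) : (pi0 y : Equiv.Perm GolayPt) ∈ D22 := by
  obtain ⟨m, Q, hm, hQ, -, h⟩ := Cfsg.Agent.KFacts.CoInv.TwoMono.mono_of_N (mem_H.1 y.2)
  rw [pi0_eq hm hQ h]
  exact (okP_iff_mem (ok_of_okP hQ)).1 hQ

/-- the map onto `D22` -/
noncomputable def pi : H →* D22 := (M24.subtype.comp pi0).codRestrict D22 pi0_mem

theorem pi_surjective : Function.Surjective pi := by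
  rintro ⟨σ, hσ⟩
  obtain ⟨P, hP, -, h⟩ := exists_el ⟨σ, hσ.1⟩
  have hP' : okP P = true := by
    rw [okP_iff_mem hP, h]
    exact hσ
  refine ⟨⟨mo2 0 P, mo2_mem_H inE_zero hP'⟩, ?_⟩
  apply Subtype.ext
  show (pi0 _ : Equiv.Perm GolayPt) = σ
  rw [pi0_eq inE_zero hP' rfl, h]

/-- the kernel consists of sign changes -/
theorem sign_of_pi {y : H} (hy : pi y = 1) : ∃ c : golayCode, toCo0 (y : Spor.Co2) = signCo0 c := by
  obtain ⟨m, Q, hm, hQ, -, h⟩ := Cfsg.Agent.KFacts.CoInv.TwoMono.mono_of_N (mem_H.1 y.2)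
  have h1 : pi0 y = 1 := by
    have h2 : ((pi y : D22) : Equiv.Perm GolayPt) = 1 := by rw [hy]; rfl
    exact Subtype.ext h2
  rw [pi0_eq hm hQ h] at h1
  refine ⟨cd m, ?_⟩
  rw [h, toCo0_mo2 hm hQ]
  show signCo0 (cd m) * permCo0 (el Q) = _
  rw [h1, map_one, mul_one]

theorem qr_zero : ((q 0 : golayCode) : GolayPt → ZMod 2) (some 0) = 1 := by
  show qrWord 0 (some 0) = 1
  decide

/-- the vector with `5` at infinity and `3` at `0` -/
def vec : leechLattice := signCo0 (q 0) • oddVec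

theorem vec_none : ((vec : leechLattice) : GolayPt → ℤ) none = 5 := by
  unfold vec
  rw [sign_coe, if_neg]
  · rfl
  · rw [notMem_sup]
    rfl

theorem vec_zero : ((vec : leechLattice) : GolayPt → ℤ) (some 0) = 3 := by
  unfold vec
  rw [sign_coe, if_pos]
  · rfl
  · rw [mem_sup]
    exact qr_zero

theorem sqNorm_vec : sqNorm ((vec : leechLattice) : GolayPt → ℤ) = 64 := by
  unfold vec
  rw [Cfsg.Agent.SporadicA.Co0Card.sqNorm_smul]
  exact sqNorm_oddVec

theorem vec_not_mem : vec ∉ V23 := by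
  intro h
  have h1 : (2 : ℤ) ∣ ((vec : leechLattice) : GolayPt → ℤ) none := (mem_V23 _).1 h none
  rw [vec_none] at h1
  omega

theorem leechU_coe (p : GolayPt) : ((leechU : leechLattice) : GolayPt → ℤ) p = if p = none ∨ p = some 0 then 4 else 0 :=
  rfl

/-- an element of `Co0` fixing `leechU` and taking `vec` to `e8 none` -/
theorem exists_move : ∃ g : Co0, g • leechU = leechU ∧ g • vec = e8 none := by
  obtain ⟨g1, hg1⟩ := Cfsg.Agent.CpAutBig.CoZero.exists_smul_eq (n := 64) (Or.inr (Or.inr rfl)) vec (e8 none)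
    sqNorm_vec (sqNorm_e8 none)
  have hU : sqNorm ((leechU : leechLattice) : GolayPt → ℤ) = 32 := by
    show sqNorm vecU = 32
    decide
  have hdot : dotInt ((vec : leechLattice) : GolayPt → ℤ) ((leechU : leechLattice) : GolayPt → ℤ) = 32 := by
    unfold dotInt
    have h1 : ∀ i ∈ (Finset.univ : Finset GolayPt), i ∉ ({none, some 0} : Finset GolayPt) →
        ((vec : leechLattice) : GolayPt → ℤ) i * ((leechU : leechLattice) : GolayPt → ℤ) i = 0 := by
      intro i _ hi
      rw [leechU_coe, if_neg (by simpa using hi), mul_zero]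
    rw [← Finset.sum_subset (Finset.subset_univ ({none, some 0} : Finset GolayPt)) (fun i hi hi' => h1 i hi hi'),
      Finset.sum_pair (by simp), vec_none, vec_zero, leechU_coe, leechU_coe]
    norm_num
  have hn : ((g1 • leechU : leechLattice) : GolayPt → ℤ) none = 4 := by
    have h1 := Cfsg.Agent.Leech.FrameAux.co0_dot g1 leechU vec
    rw [hg1, Cfsg.Agent.Leech.FrameAux.dot_comm ((leechU : leechLattice) : GolayPt → ℤ), hdot, e8_coe,
      Cfsg.Agent.Leech.FrameAux.dot_single_right] at h1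
    omega
  obtain ⟨j, s, hj, hs, hx⟩ := Cfsg.Agent.Leech.FrameAux.shape_four (g1 • leechU).2
    (by rw [Cfsg.Agent.Leech.FrameAux.co0_sqNorm, hU]) hn
  obtain ⟨σ, hσ, h1, h2⟩ := Cfsg.Agent.Leech.Dot16Trans.two_trans hj
  -- after the permutation
  have h3 : ((permCo0 ⟨σ, hσ⟩ • g1 • leechU : leechLattice) : GolayPt → ℤ) =
      Pi.single none 4 + Pi.single (some 0) (4 * s) := by
    funext i
    rw [perm_coe, hx, Pi.add_apply, Pi.add_apply, Pi.single_apply, Pi.single_apply, Pi.single_apply, Pi.single_apply]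
    have e1 : σ.symm i = none ↔ i = none := by
      rw [Equiv.symm_apply_eq, h1]
    have e2 : σ.symm i = j ↔ i = some 0 := by
      rw [Equiv.symm_apply_eq, h2]
    simp only [e1, e2]
  have h4 : permCo0 ⟨σ, hσ⟩ • (e8 none : leechLattice) = e8 none := by
    rw [perm_smul_e8]
    exact congrArg e8 h1
  -- the sign
  have h5 : ∃ c : golayCode, signCo0 c • (e8 none : leechLattice) = e8 none ∧
      signCo0 c • permCo0 ⟨σ, hσ⟩ • g1 • leechU = leechU := by
    have hq1 : (none : GolayPt) ∉ sup (q 0) := by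
      rw [notMem_sup]; rfl
    have hq2 : (some 0 : GolayPt) ∈ sup (q 0) := by
      rw [mem_sup]
      exact qr_zero
    rcases hs with rfl | rfl
    · refine ⟨0, by rw [signCo0_zero, one_smul], ?_⟩
      rw [signCo0_zero, one_smul]
      apply Subtype.ext
      rw [h3]
      funext i
      rw [Pi.add_apply, leechU_coe, Pi.single_apply, Pi.single_apply]
      by_cases ha : i = none
      · subst ha; simp
      · by_cases hb : i = some 0
        · subst hb; simp
        · simp [ha, hb]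
    · refine ⟨q 0, ?_, ?_⟩
      · apply Subtype.ext
        funext i
        rw [sign_coe, e8_coe]
        by_cases hi : i = none
        · rw [hi, if_neg hq1]
        · rw [Pi.single_eq_of_ne hi]
          simp
      · apply Subtype.ext
        funext i
        rw [sign_coe, h3, Pi.add_apply, leechU_coe, Pi.single_apply, Pi.single_apply]
        by_cases ha : i = none
        · subst ha
          rw [if_neg hq1]
          simp
        · by_cases hb : i = some 0
          · subst hb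
            rw [if_pos hq2]
            simp
          · simp [ha, hb]
  obtain ⟨c, hc1, hc2⟩ := h5
  refine ⟨signCo0 c * permCo0 ⟨σ, hσ⟩ * g1, ?_, ?_⟩
  · rw [mul_smul, mul_smul, hc2]
  · rw [mul_smul, mul_smul, hg1, h4, hc1]

theorem meet_co2 (h22 : MeetIn 2 D22) : MeetIn 2 Spor.Co2 := by
  have hfin : Finite Spor.Co2 := Nat.finite_of_card_ne_zero (by
    rw [Cfsg.Agent.Co2Type.CardCo2.card_co2]; norm_num)
  obtain ⟨g0, hg0, hg1⟩ := exists_move
  obtain ⟨g, hg⟩ := exists_toCo0 hg0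
  refine of_core odd_index_H pi pi_surjective h22 g fun y hy hgy => ?_
  obtain ⟨c, hc⟩ := sign_of_pi hy
  have h1 : (pr (toCo0 (g * (y : Spor.Co2) * g⁻¹))) • f0 = f0 :=
    (Cfsg.Agent.MonsterU.CoFrameL2.mem_F_iff _).1
      ((Cfsg.Agent.MonsterU.CoFrameL2.pr_mem_F_iff _).2 (mem_H.1 hgy))
  have h2 : Cong (signCo0 c • vec) vec := by
    rw [Cfsg.Agent.MonsterU.CoFrameL2.cong_iff_cl]
    have h3 : f0 = pr g0 • cl vec := by
      rw [pr_smul_cl, hg1]; rfl
    have h4 : pr (toCo0 (g * (y : Spor.Co2) * g⁻¹)) = pr g0 * pr (signCo0 c) * (pr g0)⁻¹ := by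
      have h5 : toCo0 (g * (y : Spor.Co2) * g⁻¹) = g0 * signCo0 c * g0⁻¹ := by
        rw [map_mul toCo0, map_mul toCo0, map_inv toCo0, hg, hc]
      rw [h5, map_mul, map_mul, map_inv]
    rw [h4, h3, ← mul_smul, inv_mul_cancel_right, mul_smul, smul_left_cancel_iff, pr_smul_cl] at h1
    exact h1
  apply Subtype.ext
  apply toCo0_injective
  rw [hc]
  show _ = toCo0 1
  rw [map_one]
  rcases sign_not_cong vec_not_mem h2 with rfl | rfl
  · exact signCo0_zero
  · exfalso
    have h3 := toCo0_smul (y : Spor.Co2)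
    rw [hc, allOne_smul] at h3
    have h4 : (-leechU : leechLattice).1 none = leechU.1 none := by rw [h3]
    have h5 : (leechU : leechLattice).1 none = 4 := rfl
    have h6 : (-leechU : leechLattice).1 none = -((leechU : leechLattice).1 none) := rfl
    omega

end Cfsg.Agent.H935.Meet.CoTwo
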