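import Cfsg.Agent.H850.MonHN
import Cfsg.Agent.HN.Index
import Cfsg.Agent.S1701
import Cfsg.Agent.BpSpor.MBigEleven

/-!
# An element of order 5 inverted by `z`, and a group of order 125

In the model `MG` of the Monster: `j ∈ Q` an involution, `s` of order 5 commuting with `j` and inverted by `z`, and a
subgroup `S` of order 125 commuting with `z`, `j` and `s` (it is a Sylow 5-subgroup of `2.HS.2 ≤ HN`).
-/

set_option autoImplicit false

namespace Cfsg.Agent.H935.Meet.BabyFive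

open Cfsg.Agent.MonsterX Cfsg.Agent.MonsterX.Space Cfsg.Agent.MonsterX.Conc Cfsg.Agent.MonsterX.Model
open Cfsg.Agent.MonsterX.InstData Cfsg.Agent.MonsterX.BaseVec Cfsg.Agent.MonsterX.HNWord
open Cfsg.Agent.MonsterX.HNAbs Cfsg.Agent.MonsterX.WordSub Cfsg.Agent.MonsterX.WordRels
open Cfsg.Agent.BpSpor.MBigModel (MG zz)

/-- the generators -/
noncomputable def gen : Cfsg.Spor.HN.Gen → V ≃ₗ[ℚ] V := HNPart.gen (op gV)

theorem config : Config M HNRelEq.X HNRelEq.Y HNRelEq.Z (op gV) (op gV2) (op gP) := by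
  have c := HNAxes.config InstanceFinal.pack
  rw [HNFive.op_gX, HNFive.op_gY, HNFive.op_gZ] at c
  exact c

theorem gen_mem (a : Cfsg.Spor.HN.Gen) : gen a ∈ M.G := by
  cases a with
  | x => exact config.x_mem
  | y => exact C_le_G HNRelEq.Y_mem_C
  | z => exact config.z_mem
  | t => exact tt_mem KDone.mGroup KDone.mRep config.v_mem

/-- the generators in `MG` -/
noncomputable def g (a : Cfsg.Spor.HN.Gen) : MG := ⟨gen a, gen_mem a⟩

theorem rels : ∀ r ∈ Cfsg.Spor.coxRelators Cfsg.Spor.HN.edges ∪ {r | r ∈ Cfsg.Spor.HN.extra},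
    FreeGroup.lift g r = 1 := by
  have P := InstanceFinal.pack
  have hT : MTrans M := Instance.mTrans
  have c := config
  have h : ∀ r ∈ hnWs, ev gen r = 1 :=
    HNRelEq.rels P.hG P.hR P.hL P.lines gen rfl rfl rfl
      (c.rel_t5 P.hG P.hR P.hL P.hO hT) (c.rel_tx P.hG P.hR P.hL P.hO hT) (c.rel_ty P.hG P.hR P.hL P.hO hT)
      (c.rel_zt P.hG P.hR P.hL P.hO hT)
  have h' : ∀ r ∈ hnWs, ev g r = 1 := fun r hr => WordsCodeM.ev_sub (h r hr)
  rintro r (hr | hr)
  · exact cox_lift _ g (fun x hx => absurd hx (by simp [Cfsg.Spor.coxNodes, Cfsg.Spor.HN.edges])) r hr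
  · exact lift_extra hn_extra g h' r hr

/-- the embedding of `HN` -/
noncomputable def Phi : Cfsg.Spor.HN →* MG := PresentedGroup.toGroup rels

theorem Phi_of (a : Cfsg.Spor.HN.Gen) : Phi (PresentedGroup.of a) = g a := PresentedGroup.toGroup.of rels

theorem Phi_injective : Function.Injective Phi := by
  have P := InstanceFinal.pack
  have hT : MTrans M := Instance.mTrans
  have hs : IsSimpleGroup Cfsg.Spor.HN := Cfsg.Agent.S1701.result.1
  rw [← MonoidHom.ker_eq_bot_iff]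
  rcases Phi.normal_ker.eq_bot_or_eq_top with h1 | h1
  · exact h1
  · exfalso
    apply config.t_ne P.hG P.hR P.hL P.hO hT
    have h2 : (PresentedGroup.of Cfsg.Spor.HN.Gen.t : Cfsg.Spor.HN) ∈ Phi.ker := by
      rw [h1]; trivial
    rw [MonoidHom.mem_ker, Phi_of] at h2
    exact congrArg Subtype.val h2

/-- the subgroup `2.HS.2` -/
noncomputable def L : Subgroup MG := (Cfsg.Agent.HN.NormalH.H).map Phi

theorem card_L : Nat.card L = 177408000 := by
  rw [← Cfsg.Agent.HN.Index.card_H]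
  exact (Nat.card_congr (Subgroup.equivMapOfInjective _ _ Phi_injective).toEquiv).symm

theorem L_eq : L = Subgroup.closure {g .x, g .y, g .z} := by
  unfold L
  rw [Cfsg.Agent.HN.NormalH.H_eq, MonoidHom.map_closure, Set.image_insert_eq, Set.image_pair]
  have h1 : Phi Cfsg.Agent.HN.Pres.hx = g .x := Phi_of _
  have h2 : Phi Cfsg.Agent.HN.Pres.hy = g .y := Phi_of _
  have h3 : Phi Cfsg.Agent.HN.Pres.hz = g .z := Phi_of _
  rw [h1, h2, h3]

/-- everything commuting with the generators commutes with `L` -/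
theorem comm_L {u : MG} (hx : g .x * u = u * g .x) (hy : g .y * u = u * g .y) (hz : g .z * u = u * g .z) :
    ∀ y ∈ L, y * u = u * y := by
  intro y hy'
  rw [L_eq] at hy'
  have h : Subgroup.closure {g .x, g .y, g .z} ≤ Subgroup.centralizer ({u} : Set MG) := by
    rw [Subgroup.closure_le]
    rintro w (rfl | rfl | rfl)
    · exact Subgroup.mem_centralizer_singleton_iff.2 hx
    · exact Subgroup.mem_centralizer_singleton_iff.2 hy
    · exact Subgroup.mem_centralizer_singleton_iff.2 hz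
  exact Subgroup.mem_centralizer_singleton_iff.1 (h hy')

noncomputable def j : MG := ⟨jj M, jj_mem KDone.mGroup KDone.mRep⟩

noncomputable def t0 : MG := ⟨M.t₀, t₀_mem KDone.mGroup KDone.mRep⟩

noncomputable def s : MG := ⟨op gP * tt M (op gV) * (op gP)⁻¹, config.s_mem KDone.mGroup KDone.mRep⟩

theorem coe_zz : ((zz : MG) : V ≃ₗ[ℚ] V) = M.z := KDone.lnk.z_eq.symm

theorem j_eq : j = zz * t0 := by
  apply Subtype.ext
  show M.z * M.t₀ = ((zz : MG) : V ≃ₗ[ℚ] V) * M.t₀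
  rw [coe_zz]

theorem t0_sq : t0 * t0 = 1 := Subtype.ext KDone.mRep.t₀_sq

theorem zz_t0 : zz * t0 = t0 * zz := by
  apply Subtype.ext
  show ((zz : MG) : V ≃ₗ[ℚ] V) * M.t₀ = M.t₀ * ((zz : MG) : V ≃ₗ[ℚ] V)
  rw [coe_zz]
  exact HNAbs.z_t₀ KDone.mGroup KDone.mRep

theorem j_sq : j * j = 1 := Subtype.ext (jj_sq KDone.mGroup KDone.mRep)

theorem x_sq : g .x * g .x = j := Subtype.ext config.x_sq

theorem s_five : s ^ 5 = 1 := by
  have P := InstanceFinal.pack
  exact Subtype.ext (config.s_five P.hG P.hR P.hL P.hO Instance.mTrans)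

theorem s_ne : s ≠ 1 := by
  have P := InstanceFinal.pack
  intro h
  exact config.s_ne P.hG P.hR P.hL P.hO Instance.mTrans (congrArg Subtype.val h)

theorem orderOf_s : orderOf s = 5 := by
  have : Fact (Nat.Prime 5) := ⟨by norm_num⟩
  exact orderOf_eq_prime s_five s_ne

theorem comm_s_x : g .x * s = s * g .x := by
  have P := InstanceFinal.pack
  exact Subtype.ext (config.comm_s_x P.hG P.hR P.hL P.hO Instance.mTrans).symm

theorem comm_s_y : g .y * s = s * g .y := by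
  have P := InstanceFinal.pack
  exact Subtype.ext (config.comm_s_y P.hG P.hR P.hL P.hO Instance.mTrans).symm

theorem comm_s_z : g .z * s = s * g .z := by
  have P := InstanceFinal.pack
  exact Subtype.ext (config.comm_s_z P.hG P.hR P.hL P.hO Instance.mTrans).symm

theorem s_j : s * j = j * s := by
  rw [← x_sq]
  rw [← mul_assoc, ← comm_s_x, mul_assoc, ← comm_s_x, mul_assoc]

/-- `t₀` inverts `s` -/
theorem t0_s : t0 * s * t0⁻¹ = s⁻¹ := by
  have h1 : ((s : MG) : V ≃ₗ[ℚ] V) = M.t₀ * jv M (op gP * op gV) := config.s_eq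
  have h2 := jv_sq KDone.mRep (op gP * op gV)
  have h3 : M.t₀ * M.t₀ = 1 := KDone.mRep.t₀_sq
  apply Subtype.ext
  show M.t₀ * ((s : MG) : V ≃ₗ[ℚ] V) * M.t₀⁻¹ = ((s : MG) : V ≃ₗ[ℚ] V)⁻¹
  rw [h1, mul_inv_rev, inv_eq_of_mul_eq_one_left h2, ← mul_assoc, h3, one_mul]

theorem zz_eq : zz = j * t0 := by
  rw [j_eq, mul_assoc, t0_sq, mul_one]

theorem j_s : j * s * j⁻¹ = s := by rw [← s_j, mul_inv_cancel_right]

/-- `z` inverts `s` -/
theorem zz_s : zz * s * zz⁻¹ = s⁻¹ := by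
  rw [zz_eq]
  calc j * t0 * s * (j * t0)⁻¹ = j * (t0 * s * t0⁻¹) * j⁻¹ := by group
    _ = (j * s * j⁻¹)⁻¹ := by rw [t0_s]; group
    _ = s⁻¹ := by rw [j_s]

theorem comm_zz {w : V ≃ₗ[ℚ] V} (hw : w ∈ M.C) (h : w ∈ M.G) : (⟨w, h⟩ : MG) * zz = zz * ⟨w, h⟩ := by
  apply Subtype.ext
  show w * ((zz : MG) : V ≃ₗ[ℚ] V) = ((zz : MG) : V ≃ₗ[ℚ] V) * w
  rw [coe_zz]
  exact KDone.mGroup.z_comm w hw

theorem comm_j {w : V ≃ₗ[ℚ] V} (hw : w ∈ M.C) (h : w ∈ M.G) (e : w M.a₀ = M.a₀) :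
    (⟨w, h⟩ : MG) * j = j * ⟨w, h⟩ :=
  Subtype.ext (Config.comm_jj KDone.mGroup KDone.mRep hw e)

theorem L_zz : ∀ y ∈ L, y * zz = zz * y :=
  comm_L (comm_zz HNRelEq.X_mem_C _) (comm_zz HNRelEq.Y_mem_C _) (comm_zz HNRelEq.Z_mem_C _)

theorem L_j : ∀ y ∈ L, y * j = j * y :=
  comm_L (comm_j HNRelEq.X_mem_C _ config.x_a₀) (comm_j HNRelEq.Y_mem_C _ config.y_a₀)
    (comm_j HNRelEq.Z_mem_C _ config.z_a₀)

theorem L_s : ∀ y ∈ L, y * s = s * y := comm_L comm_s_x comm_s_y comm_s_z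

theorem j_mem : j ∈ KDone.K.ι.range := by
  have h : jj M ∈ Conc.Q := by
    have h1 : M.z ∈ M.Q := KDone.mGroup.z_mem
    have h2 : M.t₀ ∈ M.Q := KDone.mRep.t₀_mem
    exact M.Q.mul_mem h1 h2
  obtain ⟨p, hp⟩ := (KDone.lnk.Q_iff _).1 h
  exact ⟨p, Subtype.ext hp.symm⟩

theorem t0_ne : t0 ≠ 1 := by
  intro h
  have h1 := t0_s
  rw [h, inv_one, one_mul, mul_one] at h1
  have h2 : s ^ 2 = 1 := by
    rw [pow_two]
    nth_rw 2 [h1]
    exact mul_inv_cancel s
  have h3 := orderOf_dvd_of_pow_eq_one h2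
  rw [orderOf_s] at h3
  exact absurd h3 (by decide)

theorem j_ne_one : j ≠ 1 := by
  intro h
  obtain ⟨y₁, -, -, h2⟩ := exists_jj KDone.mGroup KDone.mRep
  have h3 : jj M = 1 := congrArg Subtype.val h
  rw [h3] at h2
  apply t0_ne
  apply Subtype.ext
  show M.t₀ = 1
  have h4 : y₁ * M.t₀ * y₁⁻¹ = 1 := h2
  have h5 : M.t₀ = y₁⁻¹ * (y₁ * M.t₀ * y₁⁻¹) * y₁ := by group
  rw [h5, h4]
  group

theorem j_ne_zz : j ≠ zz := by
  intro h
  apply t0_ne
  rw [j_eq] at h
  exact mul_eq_left.1 h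

theorem orderOf_j : orderOf j = 2 := by
  have : Fact (Nat.Prime 2) := ⟨Nat.prime_two⟩
  exact orderOf_eq_prime (by rw [pow_two, j_sq]) j_ne_one

/-- a subgroup of order 125 -/
theorem exists_S : ∃ S : Subgroup MG, Nat.card S = 125 ∧ S ≤ L := by
  have : Fact (Nat.Prime 5) := ⟨by norm_num⟩
  have hf := Cfsg.Agent.BpSpor.MBigModel.finite
  obtain ⟨K, hK⟩ := Sylow.exists_subgroup_card_pow_prime (G := L) 5 (n := 3) (by rw [card_L]; decide)
  refine ⟨K.map L.subtype, ?_, ?_⟩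
  · have h : Nat.card (K.map L.subtype) = Nat.card K :=
      (Nat.card_congr (Subgroup.equivMapOfInjective _ _ L.subtype_injective).toEquiv).symm
    rw [h, hK]
    norm_num
  · rintro _ ⟨y, -, rfl⟩
    exact y.2

end Cfsg.Agent.H935.Meet.BabyFive
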