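import Cfsg.Agent.H68.MeetBase
import Cfsg.Agent.H722.RealP

/-!
# Trivial intersections of Sylow 2-subgroups: tools (helper935)

* `of_pair` : `z` with `C(z)` of odd index, no involution commutes with both `z` and `z ^ x`;
* `of_inv` : the same when `z` inverts an element `g` of odd order and no involution commutes with `z` and `g`;
* `of_inter` : `H` of odd index, `MeetIn 2 (H ∩ H ^ x)`.
-/

set_option autoImplicit false

namespace Cfsg.Agent.H935.Meet

open Subgroup Cfsg.Agent.H68.MeetB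

variable {T : Type*} [Group T]

/-- a non-trivial element of a 2-group has a power which is an involution -/
theorem exists_invol {y : T} {k : ℕ} (hk : y ^ 2 ^ k = 1) (hy : y ≠ 1) : ∃ m : ℕ, y ^ m ≠ 1 ∧ y ^ m * y ^ m = 1 := by
  induction k generalizing y with
  | zero => exact absurd (by simpa using hk) hy
  | succ k ih =>
    by_cases h : y ^ 2 = 1
    · exact ⟨1, by simpa using hy, by simpa [← pow_two] using h⟩
    · obtain ⟨m, h1, h2⟩ := ih (y := y ^ 2) (by rw [← pow_mul, ← pow_succ']; exact hk) h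
      exact ⟨2 * m, by rwa [pow_mul], by rwa [pow_mul]⟩

/-- **Intersection of a subgroup of odd index with a conjugate** : `H` has odd index; the 2-subgroups of `H ∩ x H x⁻¹`
meet some of their conjugates trivially. -/
theorem of_inter [Finite T] {H : Subgroup T} (hi : ¬ 2 ∣ H.index) (x : T)
    (hD : MeetIn 2 ↥(H ⊓ H.map (MulAut.conj x).toMonoidHom)) : MeetIn 2 T := by
  have hp : Fact (Nat.Prime 2) := ⟨Nat.prime_two⟩
  set D := H ⊓ H.map (MulAut.conj x).toMonoidHom with hDdef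
  obtain ⟨S⟩ : Nonempty (Sylow 2 ↥H) := inferInstance
  let P : Subgroup T := (S : Subgroup ↥H).map H.subtype
  have hP : IsPGroup 2 P := S.isPGroup'.map _
  have hPH : P ≤ H := by
    rintro _ ⟨s, -, rfl⟩
    exact s.2
  have hPi : ¬ 2 ∣ P.index := by
    have h1 : P.index = (S : Subgroup ↥H).index * H.index := by
      rw [Subgroup.index_map, (MonoidHom.ker_eq_bot_iff _).2 H.subtype_injective, sup_bot_eq, Subgroup.range_subtype]
    rw [h1]
    intro h
    rcases Nat.prime_two.dvd_mul.1 h with h | h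
    · exact S.not_dvd_index h
    · exact hi h
  -- the two 2-subgroups of D
  let R1 : Subgroup ↥D := P.subgroupOf D
  let R2 : Subgroup ↥D := (P.map (MulAut.conj x).toMonoidHom).subgroupOf D
  have hR1 : IsPGroup 2 R1 := hP.comap_of_injective _ D.subtype_injective
  have hR2 : IsPGroup 2 R2 := (hP.map _).comap_of_injective _ D.subtype_injective
  obtain ⟨S1, hS1⟩ := hR1.exists_le_sylow
  obtain ⟨S2, hS2⟩ := hR2.exists_le_sylow
  obtain ⟨c, hc⟩ := MulAction.exists_smul_eq ↥D S2 S1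
  obtain ⟨d, hd⟩ := hD S1 S1.isPGroup'
  -- `d S1 d⁻¹ ∩ S1 = 1`, hence `d R1 d⁻¹ ∩ c R2 c⁻¹ = 1`
  have hcS : ∀ y ∈ R2, c * y * c⁻¹ ∈ (S1 : Subgroup ↥D) := by
    intro y hy
    have h1 : y ∈ (S2 : Subgroup ↥D) := hS2 hy
    have h2 : c * y * c⁻¹ ∈ ((c • S2 : Sylow 2 ↥D) : Subgroup ↥D) := by
      rw [Sylow.smul_def]
      exact (mem_smul_pointwise_iff_exists _ _ _).2 ⟨y, h1, rfl⟩
    rwa [hc] at h2
  -- the conjugating element
  refine MeetIn.of_one P hP hPi ⟨x⁻¹ * (c : T)⁻¹ * (d : T), fun y hy hxy => ?_⟩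
  -- y ∈ P, (x⁻¹ c⁻¹ d) y (x⁻¹ c⁻¹ d)⁻¹ ∈ P
  have hdH : (d : T) ∈ H := (mem_inf.1 d.2).1
  have hcD : (c : T) ∈ D := c.2
  have h1 : (d : T) * y * (d : T)⁻¹ ∈ H := H.mul_mem (H.mul_mem hdH (hPH hy)) (H.inv_mem hdH)
  have h2 : (c : T)⁻¹ * ((d : T) * y * (d : T)⁻¹) * c ∈ P.map (MulAut.conj x).toMonoidHom := by
    refine ⟨_, hxy, ?_⟩
    change x * (x⁻¹ * (c : T)⁻¹ * (d : T) * y * (x⁻¹ * (c : T)⁻¹ * (d : T))⁻¹) * x⁻¹ = _
    group
  have h3 : (c : T)⁻¹ * ((d : T) * y * (d : T)⁻¹) * c ∈ D := by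
    refine mem_inf.2 ⟨?_, map_mono hPH h2⟩
    have hcH : (c : T) ∈ H := (mem_inf.1 hcD).1
    exact H.mul_mem (H.mul_mem (H.inv_mem hcH) h1) hcH
  have h4 : (d : T) * y * (d : T)⁻¹ ∈ D := by
    have h5 := D.mul_mem (D.mul_mem hcD h3) (D.inv_mem hcD)
    have h6 : (c : T) * ((c : T)⁻¹ * ((d : T) * y * (d : T)⁻¹) * c) * (c : T)⁻¹ = (d : T) * y * (d : T)⁻¹ := by group
    rwa [h6] at h5
  have h5 : y ∈ D := by
    have h6 := D.mul_mem (D.mul_mem (D.inv_mem d.2) h4) d.2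
    have h7 : (d : T)⁻¹ * ((d : T) * y * (d : T)⁻¹) * d = y := by group
    rwa [h7] at h6
  have h6 : (⟨y, h5⟩ : ↥D) ∈ (S1 : Subgroup ↥D) := hS1 (mem_subgroupOf.2 hy)
  have h7 : c * (⟨_, h3⟩ : ↥D) * c⁻¹ ∈ (S1 : Subgroup ↥D) := hcS _ (mem_subgroupOf.2 h2)
  have h8 : c * (⟨_, h3⟩ : ↥D) * c⁻¹ = d * (⟨y, h5⟩ : ↥D) * d⁻¹ := by
    apply Subtype.ext
    change (c : T) * ((c : T)⁻¹ * ((d : T) * y * (d : T)⁻¹) * c) * (c : T)⁻¹ = (d : T) * y * (d : T)⁻¹
    group
  rw [h8] at h7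
  have h9 := hd _ h6 h7
  exact congrArg Subtype.val h9

/-- groups of odd order -/
theorem meetIn_of_no_invol (h : ∀ u : T, u * u = 1 → u = 1) : MeetIn 2 T := by
  intro R hR
  refine ⟨1, fun y hy _ => ?_⟩
  obtain ⟨k, hk⟩ := hR ⟨y, hy⟩
  have hk' : y ^ 2 ^ k = 1 := congrArg Subtype.val hk
  by_contra hne
  obtain ⟨m, h1, h2⟩ := exists_invol hk' hne
  exact h1 (h _ h2)

/-- **(Z)** -/
theorem of_pair [Finite T] {z x : T} (hi : ¬ 2 ∣ (centralizer ({z} : Set T)).index)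
    (h : ∀ u : T, u * u = 1 → u * z = z * u → u * (x * z * x⁻¹) = (x * z * x⁻¹) * u → u = 1) : MeetIn 2 T := by
  refine of_inter hi x (meetIn_of_no_invol fun u huu => ?_)
  obtain ⟨h1, h2⟩ := mem_inf.1 u.2
  obtain ⟨y, hy, hyu⟩ := h2
  have hyu' : x * y * x⁻¹ = (u : T) := hyu
  have hyz : y * z = z * y := mem_centralizer_singleton_iff.1 hy
  apply Subtype.ext
  refine h _ (congrArg Subtype.val huu) (mem_centralizer_singleton_iff.1 h1) ?_
  rw [← hyu']
  calc x * y * x⁻¹ * (x * z * x⁻¹) = x * (y * z) * x⁻¹ := by group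
    _ = x * (z * y) * x⁻¹ := by rw [hyz]
    _ = x * z * x⁻¹ * (x * y * x⁻¹) := by group

/-- an element commuting with `g ^ 2` commutes with `g`, `g` of odd order -/
theorem comm_of_sq {g u : T} (ho : Odd (orderOf g)) (h : u * (g * g) = (g * g) * u) : u * g = g * u := by
  obtain ⟨k, hk⟩ := ho
  have h1 : Commute u (g * g) := h
  have h2 : (g * g) ^ (k + 1) = g := by
    rw [← pow_two, ← pow_mul, show 2 * (k + 1) = orderOf g + 1 by omega, pow_succ, pow_orderOf_eq_one, one_mul]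
  have h3 : Commute u ((g * g) ^ (k + 1)) := h1.pow_right _
  rw [h2] at h3
  exact h3

/-- **(Z)** for an inverted element of odd order. -/
theorem of_inv [Finite T] {z g : T} (hi : ¬ 2 ∣ (centralizer ({z} : Set T)).index) (ho : Odd (orderOf g))
    (hz : z * z = 1) (hinv : z * g * z⁻¹ = g⁻¹)
    (h : ∀ u : T, u * u = 1 → u * z = z * u → u * g = g * u → u = 1) : MeetIn 2 T := by
  refine of_pair (x := g) hi fun u huu huz hug => h u huu huz (comm_of_sq ho ?_)
  have hz' : z⁻¹ = z := inv_eq_of_mul_eq_one_right hz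
  -- `z (g z g⁻¹) = (g * g)⁻¹`
  have h1 : (g * z * g⁻¹) * z = g * g := by
    have h2 : z * g⁻¹ * z⁻¹ = g := by rw [← conj_inv, hinv, inv_inv]
    calc (g * z * g⁻¹) * z = g * (z * g⁻¹ * z⁻¹) := by rw [hz']; group
      _ = g * g := by rw [h2]
  rw [← h1]
  calc u * (g * z * g⁻¹ * z) = (u * (g * z * g⁻¹)) * z := by group
    _ = (g * z * g⁻¹) * (u * z) := by rw [hug]; group
    _ = (g * z * g⁻¹ * z) * u := by rw [huz]; group

/-- **(Z)** : an inverting 2-element, no involution commutes with `g`, every involution has a centralizer of odd index. -/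
theorem of_real [Finite T] {p : ℕ} (hp : p.Prime) (h2 : p ≠ 2) (hr : Cfsg.Agent.H722.RealP.HasReal p T)
    (hna : ∀ x t : T, orderOf x = p → orderOf t = 2 → x * t ≠ t * x)
    (hi : ∀ t : T, orderOf t = 2 → ¬ 2 ∣ (centralizer ({t} : Set T)).index) : MeetIn 2 T := by
  have hf : Fact (Nat.Prime 2) := ⟨Nat.prime_two⟩
  obtain ⟨x, t, hx, ⟨k, hk⟩, hxt⟩ := hr
  have hu : ∀ u : T, u * u = 1 → u * x = x * u → u = 1 := by
    intro u huu hux
    by_contra hne
    exact hna x u hx (orderOf_eq_prime (by rw [pow_two, huu]) hne) hux.symm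
  have hodd : Odd (orderOf x) := by rw [hx]; exact hp.odd_of_ne_two h2
  -- `t` is an involution
  have htx : t * t * x = x * (t * t) := by
    have h3 : t * (t * x * t⁻¹) * t⁻¹ = x := by rw [hxt, ← conj_inv, hxt, inv_inv]
    calc t * t * x = t * (t * x * t⁻¹) * t⁻¹ * (t * t) := by group
      _ = x * (t * t) := by rw [h3]
  have htt : t * t = 1 := by
    by_contra hne
    obtain ⟨m, h3, h4⟩ := exists_invol (y := t * t) (k := k) (by
      rw [← pow_two, ← pow_mul, mul_comm, pow_mul, ← hk, pow_orderOf_eq_one, one_pow]) hne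
    refine h3 (hu _ h4 ?_)
    have h5 : Commute (t * t) x := htx
    exact h5.pow_left m
  have ht1 : t ≠ 1 := by
    rintro rfl
    have h3 : x = x⁻¹ := by simpa using hxt
    have h4 : x ^ 2 = 1 := by rw [pow_two]; nth_rw 2 [h3]; exact mul_inv_cancel x
    have h5 := orderOf_dvd_of_pow_eq_one h4
    rw [hx] at h5
    exact h2 ((Nat.prime_dvd_prime_iff_eq hp Nat.prime_two).1 h5)
  exact of_inv (hi t (orderOf_eq_prime (by rw [pow_two, htt]) ht1)) hodd htt hxt fun u huu _ hug => hu u huu hug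

/-- odd index from the order -/
theorem not_dvd_index [Finite T] {t : T} {n : ℕ} (h : 2 ^ n ∣ Nat.card ↥(centralizer ({t} : Set T)))
    (hn : ¬ 2 ^ (n + 1) ∣ Nat.card T) : ¬ 2 ∣ (centralizer ({t} : Set T)).index := by
  intro h1
  apply hn
  rw [← card_mul_index (centralizer ({t} : Set T)), pow_succ]
  exact Nat.mul_dvd_mul h h1

end Cfsg.Agent.H935.Meet
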