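import Cfsg.Agent.ConwayFacts.AutCo1
import Cfsg.Agent.H848.Dual
import Cfsg.Agent.H964.NoHall.MonA
import Cfsg.Agent.SporadicStructure.Co2RankThree
import Cfsg.Agent.CpAutBig.CoZero
import Cfsg.Agent.MonsterU.Chart

/-!
# Subgroups of order 25 of `Co1` fixing two classes, and `C_Q(s)` for an element `s` of order 5

`Cfsg.Agent.H935.Meet.CoFive.cent_five`: if `s` commutes with `j ∈ Q` (type 2), not with `z`, and a subgroup of order
125 commutes with `z`, `j`, `s`, then `C_Q(s) = ⟨j⟩`.
-/

set_option autoImplicit false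

namespace Cfsg.Agent.H935.Meet.CoFive

open Cfsg Cfsg.Spor Cfsg.Agent.MonsterU.Lam2 Cfsg.Agent.MonsterU.Ch
open Cfsg.Agent.CoOneType.CoOneE (pr pr_surjective)
open Subgroup (centralizer mem_centralizer_singleton_iff)

instance : Finite Co1 := Nat.finite_of_card_ne_zero (by
  rw [Cfsg.Agent.MonsterU.CoFrameF.card_Co1]; norm_num)

/-- a subgroup of order divisible by 25 fixes no class of type 4 -/
theorem not_four {R : Subgroup Co1} (hR : 25 ∣ Nat.card R) {v : L2} (hv : IsType 4 v) (hf : ∀ g ∈ R, g • v = v) :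
    False := by
  have h1 : R ≤ MulAction.stabilizer Co1 v := fun g hg => hf g hg
  have h2 : (MulAction.stabilizer Co1 v).index = 8292375 := by
    rw [MulAction.index_stabilizer, Cfsg.Agent.ConwayFacts.NormL2.orbit_eq (Or.inr (Or.inr rfl)) hv,
      Cfsg.Agent.ConwayFacts.NormL2.ncard_four]
  have h3 := (MulAction.stabilizer Co1 v).card_mul_index
  rw [h2, Cfsg.Agent.MonsterU.CoFrameF.card_Co1] at h3
  have h4 : 25 ∣ Nat.card (MulAction.stabilizer Co1 v) := hR.trans (Subgroup.card_dvd_of_le h1)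
  obtain ⟨k, hk⟩ := h4
  rw [hk] at h3
  omega

/-- a subgroup of order divisible by 25 does not fix two classes of type 2 with sum of type 2 -/
theorem not_two {R : Subgroup Co1} (hR : 25 ∣ Nat.card R) {a b : L2} (ha : IsType 2 a) (hb : IsType 2 b)
    (hab : IsType 2 (a + b)) (hfa : ∀ g ∈ R, g • a = a) (hfb : ∀ g ∈ R, g • b = b) : False := by
  have : Fact (Nat.Prime 5) := ⟨by norm_num⟩
  have hfin : Finite Co0 := Cfsg.Agent.CpAutBig.CoZero.finite_co0
  obtain ⟨u, hu, rfl⟩ := ha
  have hu' : sqNorm (u : GolayPt → ℤ) = 32 := by rw [hu]; norm_num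
  obtain ⟨w, hw, rfl, huw⟩ := Cfsg.Agent.H964.NoHall.MonA.neg_rep hu' hb hab
  have h1 : 25 ∣ Nat.card (R.comap pr) := by
    have h2 : Nat.card R ∣ Nat.card (R.comap pr) := by
      have h3 : (R.comap pr).map pr = R := Subgroup.map_comap_eq_self_of_surjective pr_surjective R
      conv_lhs => rw [← h3]
      exact Subgroup.card_map_dvd _ _
    exact hR.trans h2
  obtain ⟨K, hK⟩ := Sylow.exists_subgroup_card_pow_prime (G := R.comap pr) 5 (n := 2) (by norm_num; exact h1)
  have hne : ∀ v : leechLattice, sqNorm (v : GolayPt → ℤ) = 32 → v ≠ 0 := by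
    rintro v hv rfl
    have h2 : sqNorm ((0 : leechLattice) : GolayPt → ℤ) = 0 := by
      unfold sqNorm
      exact Finset.sum_eq_zero fun i _ => by
        show ((0 : GolayPt → ℤ) i) ^ 2 = 0
        norm_num
    rw [h2] at hv
    norm_num at hv
  have hfix : ∀ v : leechLattice, sqNorm (v : GolayPt → ℤ) = 32 → (∀ g ∈ R, g • cl v = cl v) →
      ∀ g ∈ K, ((g : R.comap pr) : Co0) • v = v := by
    intro v hv hf g hg
    have h2 : cl (((g : R.comap pr) : Co0) • v) = cl v := hf (pr ((g : R.comap pr) : Co0)) g.2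
    rcases Cfsg.Agent.ConwayFacts.NormL2.eq_or_neg (by
      rw [Cfsg.Agent.SporadicA.Co0Card.sqNorm_smul, hv]) hv h2 with h3 | h3
    · exact h3
    · exfalso
      refine Cfsg.Agent.CpAutBig.CoZero.not_neg (n := 25) (by decide) ?_ (hne v hv) h3
      have h4 : (⟨g, hg⟩ : K) ^ 25 = 1 := by
        have h5 : Nat.card K = 25 := by rw [hK]; norm_num
        rw [← h5]
        exact pow_card_eq_one'
      have h6 := congrArg (fun x : K => ((x : R.comap pr) : Co0)) h4
      exact h6
  have h2 : (K.map (R.comap pr).subtype) ≤ MulAction.stabilizer Co0 u ⊓ MulAction.stabilizer Co0 w := by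
    rintro _ ⟨g, hg, rfl⟩
    exact ⟨hfix u hu' hfa g hg, hfix w hw hfb g hg⟩
  have h3 : Nat.card (K.map (R.comap pr).subtype) = 25 := by
    rw [← Nat.card_congr (Subgroup.equivMapOfInjective K _ (R.comap pr).subtype_injective).toEquiv, hK]
    norm_num
  have h4 := Subgroup.card_dvd_of_le h2
  rw [h3, Cfsg.Agent.SporadicStructure.Co2RankThree.card_K u w ?_ ⟨?_, huw⟩] at h4
  · revert h4
    decide
  · show dotInt (u : GolayPt → ℤ) (u : GolayPt → ℤ) = 32
    rw [Cfsg.Agent.Leech.FrameAux.dot_self, hu']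
  · show dotInt (w : GolayPt → ℤ) (w : GolayPt → ℤ) = 32
    rw [Cfsg.Agent.Leech.FrameAux.dot_self, hw]

/-- **a subgroup of order divisible by 25 fixing `a` of type 2 fixes no other class singular and perpendicular to
`a`** -/
theorem not_fix {R : Subgroup Co1} (hR : 25 ∣ Nat.card R) {a v : L2} (ha : IsType 2 a) (hv : qf v = 0)
    (hav : bf a v = 0) (hv0 : v ≠ 0) (hva : v ≠ a) (hfa : ∀ g ∈ R, g • a = a) (hfv : ∀ g ∈ R, g • v = v) : False := by
  have hsing : ∀ x : L2, qf x = 0 → x ≠ 0 → IsType 2 x ∨ IsType 4 x := by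
    intro x hx hx0
    rcases type_cases x with h | h | h | h
    · exact absurd h hx0
    · exact Or.inl h
    · exfalso
      rw [qf_of_type h] at hx
      revert hx
      decide
    · exact Or.inr h
  have hqa : qf a = 0 := by rw [qf_of_type ha]; rfl
  have h1 : qf (a + v) = 0 := by rw [qf_add, hqa, hv, hav]; rfl
  have h0 : a + v ≠ 0 := fun h => hva (Cfsg.Agent.MonsterU.Lam2.eq_of_add_eq_zero h).symm
  rcases hsing v hv hv0 with h | h
  · rcases hsing (a + v) h1 h0 with h' | h'
    · exact not_two hR ha h h' hfa hfv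
    · exact not_four hR h' fun g hg => by rw [smul_add, hfa g hg, hfv g hg]
  · exact not_four hR h hfv

/-! ### orbits -/

theorem dvd_of_orbits {S X : Type*} [Group S] [MulAction S X] [Finite X] {m : ℕ}
    (h : ∀ x : X, m ∣ Nat.card (MulAction.orbit S x)) : m ∣ Nat.card X := by
  classical
  have := Fintype.ofFinite X
  rw [Nat.card_congr (MulAction.selfEquivSigmaOrbits S X), Nat.card_sigma]
  refine Finset.dvd_sum fun o _ => ?_
  exact h _

theorem pow_cases {n : ℕ} (h : n ∣ 125) (h25 : ¬ 25 ∣ n) : ∃ k, 25 * k * n = 125 := by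
  have h1 : n ∣ 5 ^ 3 := by norm_num; exact h
  obtain ⟨i, hi, rfl⟩ := (Nat.dvd_prime_pow (by norm_num : Nat.Prime 5)).1 h1
  interval_cases i
  · exact ⟨5, by norm_num⟩
  · exact ⟨1, by norm_num⟩
  · exact absurd (by norm_num) h25
  · exact absurd (by norm_num) h25

/-- a subspace invariant under a group of order 125 fixing `a` -/
theorem sub_le {S : Subgroup Co1} (hS : Nat.card S = 125) {a : L2} (ha : IsType 2 a) (hfa : ∀ g ∈ S, g • a = a)
    {W : AddSubgroup L2} (haW : a ∈ W) (hW : ∀ g ∈ S, ∀ v ∈ W, g • v ∈ W) (hq : ∀ v ∈ W, qf v = 0) :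
    ∀ v ∈ W, v = 0 ∨ v = a := by
  classical
  by_contra hcon
  push Not at hcon
  obtain ⟨v₀, hv₀, hv₀0, hv₀a⟩ := hcon
  have hbf : ∀ v ∈ W, ∀ w ∈ W, bf v w = 0 := by
    intro v hv w hw
    have h1 := qf_add v w
    rw [hq _ (W.add_mem hv hw), hq v hv, hq w hw] at h1
    simpa using h1.symm
  have ha0 : a ≠ 0 := Cfsg.Agent.ConwayFacts.NormL2.ne_zero_of_type (Or.inl rfl) ha
  -- the order of `W`
  have hW12 : Nat.card W ≤ 2 ^ 12 := by
    have h1 : W ≤ Cfsg.Agent.H848.Dual.perp W := fun v hv w hw => hbf v hv w hw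
    have h2 : Nat.card W ≤ Nat.card (Cfsg.Agent.H848.Dual.perp W) := Nat.card_mono (Set.toFinite _) h1
    have h3 := Cfsg.Agent.H848.Dual.card_perp W
    by_contra hlt
    push Not at hlt
    nlinarith
  obtain ⟨r, hr⟩ : ∃ r, Nat.card W = 2 ^ r := ⟨_, Cfsg.Agent.H848.Dual.card_sub W⟩
  -- the set
  let X : SubMulAction S L2 :=
    { carrier := {v | v ∈ W ∧ v ≠ 0 ∧ v ≠ a}
      smul_mem' := by
        rintro ⟨g, hg⟩ v ⟨h1, h2, h3⟩
        refine ⟨hW g hg v h1, fun h => h2 ?_, fun h => h3 ?_⟩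
        · have h' : g • v = 0 := h
          have := congrArg (fun x => g⁻¹ • x) h'
          simpa using this
        · have h' : g • v = g • a := by rw [hfa g hg]; exact h
          exact smul_left_cancel g h' }
  have hXc : Nat.card X + 2 = 2 ^ r := by
    rw [← hr]
    have h1 : Nat.card X = (((W : Set L2) \ {0, a}) : Set L2).ncard := by
      rw [← Nat.card_coe_set_eq]
      refine Nat.card_congr (Equiv.subtypeEquivRight fun v => ?_)
      show (v ∈ W ∧ v ≠ 0 ∧ v ≠ a) ↔ _
      simp [not_or]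
    have h2 : ({0, a} : Set L2) ⊆ (W : Set L2) := by
      rintro x (rfl | rfl)
      · exact W.zero_mem
      · exact haW
    have h3 := Set.ncard_sdiff_add_ncard_of_subset h2 (Set.toFinite _)
    rw [Set.ncard_pair (Ne.symm ha0)] at h3
    rw [h1, h3, ← Nat.card_coe_set_eq]
    rfl
  have hdvd : 25 ∣ Nat.card X := by
    apply dvd_of_orbits (S := S)
    intro x
    have h1 : Nat.card (MulAction.orbit S x) * Nat.card (MulAction.stabilizer S x) = 125 := by
      rw [← hS, mul_comm, ← (MulAction.stabilizer S x).card_mul_index, MulAction.index_stabilizer,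
        Nat.card_coe_set_eq]
    obtain ⟨k, hk⟩ := pow_cases (n := Nat.card (MulAction.stabilizer S x)) ⟨_, by rw [mul_comm]; exact h1.symm⟩ (by
      intro h25
      refine not_fix (R := (MulAction.stabilizer S x).map S.subtype) (a := a) (v := (x : L2)) ?_ ha
        (hq _ x.2.1) (hbf a haW _ x.2.1) x.2.2.1 x.2.2.2 ?_ ?_
      · rw [← Nat.card_congr (Subgroup.equivMapOfInjective (MulAction.stabilizer S x) _ S.subtype_injective).toEquiv]
        exact h25
      · rintro _ ⟨g, -, rfl⟩
        exact hfa g g.2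
      · rintro _ ⟨g, hg, rfl⟩
        exact congrArg Subtype.val (MulAction.mem_stabilizer_iff.1 hg))
    refine ⟨k, ?_⟩
    have h2 : 0 < Nat.card (MulAction.stabilizer S x) := Nat.card_pos
    have h3 : Nat.card (MulAction.orbit S x) * Nat.card (MulAction.stabilizer S x) =
        25 * k * Nat.card (MulAction.stabilizer S x) := by rw [h1, hk]
    exact Nat.eq_of_mul_eq_mul_right h2 h3
  -- the final contradiction
  have hpos : 0 < Nat.card X := by
    have : Nonempty X := ⟨⟨v₀, hv₀, hv₀0, hv₀a⟩⟩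
    exact Nat.card_pos
  obtain ⟨k, hk⟩ := hdvd
  have hr12 : r ≤ 12 := by
    rw [hr] at hW12
    exact (Nat.pow_le_pow_iff_right (by norm_num)).1 hW12
  rw [hk] at hXc hpos
  interval_cases r <;> omega

/-- the image in `Co1` of a subgroup of order 125 -/
theorem exists_img {G : Type*} [Group G] [Finite G] {P : Subgroup G} {z : G} {eta : G → L2}
    {pi : Subgroup.centralizer ({z} : Set G) →* Co1} (h : Chart P z eta pi) {S : Subgroup G} (hS : Nat.card S = 125)
    (hSz : ∀ y ∈ S, y * z = z * y) : ∃ S' : Subgroup Co1, Nat.card S' = 125 ∧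
      ∀ g ∈ S', ∃ y : centralizer ({z} : Set G), (y : G) ∈ S ∧ pi y = g := by
  have hSle : S ≤ centralizer ({z} : Set G) := fun y hy => mem_centralizer_singleton_iff.2 (hSz y hy)
  refine ⟨(S.subgroupOf (centralizer ({z} : Set G))).map pi, ?_, ?_⟩
  · have hinj : Function.Injective (pi.comp (S.subgroupOf (centralizer ({z} : Set G))).subtype) := by
      rw [injective_iff_map_eq_one]
      rintro ⟨y, hy⟩ hy1
      have h3 : pi y = 1 := hy1
      rw [h.pi_eq_one] at h3
      -- `y ∈ P ∩ S`
      have h4 : orderOf (y : G) ∣ 2 ^ 25 := by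
        rw [← h.card_Q]
        exact Subgroup.orderOf_dvd_natCard P h3
      have h5 : orderOf (y : G) ∣ 125 := by
        rw [← hS]
        exact Subgroup.orderOf_dvd_natCard S (Subgroup.mem_subgroupOf.1 hy)
      have h6 : orderOf (y : G) = 1 := Nat.eq_one_of_dvd_coprimes (by norm_num) h4 h5
      have h7 : (y : G) = 1 := orderOf_eq_one_iff.1 h6
      exact Subtype.ext (Subtype.ext h7)
    have h3 : (S.subgroupOf (centralizer ({z} : Set G))).map pi =
        (pi.comp (S.subgroupOf (centralizer ({z} : Set G))).subtype).range := by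
      rw [MonoidHom.range_comp, Subgroup.range_subtype]
    rw [h3, ← Nat.card_congr (MonoidHom.ofInjective hinj).toEquiv, ← hS]
    exact Nat.card_congr (Subgroup.subgroupOfEquivOfLe hSle).toEquiv
  · rintro _ ⟨y, hy, rfl⟩
    exact ⟨y, Subgroup.mem_subgroupOf.1 hy, rfl⟩

/-- **`C_Q(s) = ⟨j⟩`.** -/
theorem cent_five {G : Type*} [Group G] [Finite G] {P : Subgroup G} {z : G} {eta : G → L2}
    {pi : Subgroup.centralizer ({z} : Set G) →* Co1} (h : Chart P z eta pi) {j s : G} (hj : j ∈ P)
    (h2 : IsType 2 (eta j)) (hsz : s * z ≠ z * s) (hsj : s * j = j * s) {S : Subgroup G} (hS : Nat.card S = 125)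
    (hSz : ∀ y ∈ S, y * z = z * y) (hSj : ∀ y ∈ S, y * j = j * y) (hSs : ∀ y ∈ S, y * s = s * y)
    {u : G} (hu : u ∈ P) (hus : u * s = s * u) : u = 1 ∨ u = j := by
  -- the subspace
  have hcom : ∀ u ∈ P, u * s = s * u → ∀ v ∈ P, v * s = s * v → u * v = v * u := by
    intro u hu hus v hv hvs
    rcases h.large.comm u hu v hv with h1 | h1
    · exact h1
    · exfalso
      apply hsz
      have h3 : z = (v * u)⁻¹ * (u * v) := by rw [h1]; group
      have h4 : ∀ x y : G, x * s = s * x → y * s = s * y → (x * y) * s = s * (x * y) := by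
        intro x y hx hy
        rw [mul_assoc, hy, ← mul_assoc, hx, mul_assoc]
      have h5 : ∀ x : G, x * s = s * x → x⁻¹ * s = s * x⁻¹ := by
        intro x hx
        have : Commute x s := hx
        exact this.inv_left
      rw [h3]
      exact (h4 _ _ (h5 _ (h4 _ _ hvs hus)) (h4 _ _ hus hvs)).symm
  let W : AddSubgroup L2 :=
    { carrier := {v | ∃ u ∈ P, u * s = s * u ∧ eta u = v}
      zero_mem' := ⟨1, P.one_mem, by rw [one_mul, mul_one], h.eta_one⟩
      add_mem' := by
        rintro _ _ ⟨u, hu, hus, rfl⟩ ⟨v, hv, hvs, rfl⟩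
        exact ⟨u * v, P.mul_mem hu hv, by rw [mul_assoc, hvs, ← mul_assoc, hus, mul_assoc], h.eta_mul u hu v hv⟩
      neg_mem' := by
        rintro _ ⟨u, hu, hus, rfl⟩
        exact ⟨u, hu, hus, (neg_eq _).symm⟩ }
  have hsq : ∀ u ∈ P, u * s = s * u → u * u = 1 := by
    intro u hu hus
    rcases h.large.sq u hu with h1 | h1
    · exact h1
    · exfalso
      apply hsz
      rw [← h1, ← mul_assoc, ← hus, mul_assoc, ← hus, mul_assoc]
  -- the image of `S`
  have hSle : S ≤ centralizer ({z} : Set G) := fun y hy => mem_centralizer_singleton_iff.2 (hSz y hy)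
  let S' : Subgroup Co1 := (S.subgroupOf (centralizer ({z} : Set G))).map pi
  have hS' : Nat.card S' = 125 := by
    have hinj : Function.Injective (pi.comp (S.subgroupOf (centralizer ({z} : Set G))).subtype) := by
      rw [injective_iff_map_eq_one]
      rintro ⟨y, hy⟩ hy1
      have h3 : pi y = 1 := hy1
      rw [h.pi_eq_one] at h3
      -- `y ∈ P ∩ S`
      have h4 : orderOf (y : G) ∣ 2 ^ 25 := by
        rw [← h.card_Q]
        exact Subgroup.orderOf_dvd_natCard P h3
      have h5 : orderOf (y : G) ∣ 125 := by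
        rw [← hS]
        exact Subgroup.orderOf_dvd_natCard S (Subgroup.mem_subgroupOf.1 hy)
      have h6 : orderOf (y : G) = 1 := Nat.eq_one_of_dvd_coprimes (by norm_num) h4 h5
      have h7 : (y : G) = 1 := orderOf_eq_one_iff.1 h6
      exact Subtype.ext (Subtype.ext h7)
    have h3 : S' = (pi.comp (S.subgroupOf (centralizer ({z} : Set G))).subtype).range := by
      rw [MonoidHom.range_comp, Subgroup.range_subtype]
    rw [h3, ← Nat.card_congr (MonoidHom.ofInjective hinj).toEquiv, ← hS]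
    exact Nat.card_congr (Subgroup.subgroupOfEquivOfLe hSle).toEquiv
  have hact : ∀ (y : centralizer ({z} : Set G)), (y : G) ∈ S → ∀ u ∈ P, u * s = s * u →
      (y : G) * u * (y : G)⁻¹ ∈ P ∧ ((y : G) * u * (y : G)⁻¹) * s = s * ((y : G) * u * (y : G)⁻¹) ∧
      eta ((y : G) * u * (y : G)⁻¹) = pi y • eta u := by
    intro y hy u hu hus
    refine ⟨h.large.conj_mem y (mem_centralizer_singleton_iff.1 y.2) u hu, ?_, h.eta_conj y u hu⟩
    have hys := hSs _ hy
    have h3 : Commute (y : G) s := hys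
    have h4 : Commute u s := hus
    exact ((h3.mul_left h4).mul_left h3.inv_left)
  have key := sub_le hS' h2 (W := W) ?_ ⟨j, hj, hsj.symm, rfl⟩ ?_ ?_
  · rcases key (eta u) ⟨u, hu, hus, rfl⟩ with h3 | h3
    · rcases (h.eta_zero u hu).1 h3 with h4 | h4
      · exact Or.inl h4
      · exact absurd (by rw [← h4]; exact hus.symm) hsz
    · rcases (h.eta_eq hu hj).1 h3 with h4 | h4
      · exact Or.inr h4
      · exfalso
        apply hsz
        have h5 : z = j⁻¹ * u := by rw [h4]; group
        have h6 : Commute j s := hsj.symm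
        have h7 : Commute u s := hus
        rw [h5]
        exact ((h6.inv_left.mul_left h7).eq).symm
  · rintro _ ⟨y, hy, rfl⟩
    have h3 := h.eta_conj y j hj
    rw [← h3]
    congr 1
    have h4 := hSj _ (Subgroup.mem_subgroupOf.1 hy)
    rw [h4]; group
  · rintro _ ⟨y, hy, rfl⟩ _ ⟨u, hu, hus, rfl⟩
    obtain ⟨h3, h4, h5⟩ := hact y (Subgroup.mem_subgroupOf.1 hy) u hu hus
    exact ⟨_, h3, h4, h5⟩
  · rintro _ ⟨u, hu, hus, rfl⟩
    exact (h.sq_one hu).1 (hsq u hu hus)

end Cfsg.Agent.H935.Meet.CoFive
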