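import Cfsg.Agent.H935.Meet.Core
import Cfsg.Agent.H935.Meet.CoTwo
import Cfsg.Agent.H935.Meet.CoFive
import Cfsg.Agent.H935.Meet.BabyFive
import Cfsg.Agent.H819.TypeTwoC
import Cfsg.Agent.H819.TwoACent

/-!
# Trivial intersections of Sylow 2-subgroups: the Baby Monster, from Co2

`B = C_M(j)/⟨j⟩`, `H = C_B(z) = 2^{1+22}.Co2`; `s` of order 5 inverted by `z`: `O_2(H)^s ∩ H = 1`.
-/

set_option autoImplicit false

namespace Cfsg.Agent.H935.Meet.Baby

open Cfsg Cfsg.Spor Cfsg.Agent.MonsterU.Lam2 Cfsg.Agent.MonsterU.Ch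
open Cfsg.Agent.H68.MeetB
open Cfsg.Agent.H819.TypeTwo
open Cfsg.Agent.LThreeMB (XX Zx self Zx_normal mk exists_mk mk_eq_one mk_mul mk_one mk_inv mk_congr mk_eq_mk conj_comm
  exists_fac PB mem_PB PP mem_PP)
open Subgroup (centralizer zpowers mem_centralizer_singleton_iff)

section chart

variable {G : Type*} [Group G] {P : Subgroup G} {z j s : G} {eta : G → L2}
  {pi : Subgroup.centralizer ({z} : Set G) →* Co1}

/-- an element of `P` commuting with `s` and its conjugate commuting with `z` -/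
theorem comm_s (h : Chart P z eta pi) (ho : Odd (orderOf s)) (hinv : z * s * z⁻¹ = s⁻¹) {u : G} (hu : u ∈ P)
    (hz : (s * u * s⁻¹) * z = z * (s * u * s⁻¹)) : u * s = s * u := by
  have hzz := h.large.z_sq
  have hzi : z⁻¹ = z := inv_eq_of_mul_eq_one_right hzz
  have h1 : u * z = z * u := h.large.comm_z u hu
  refine comm_of_sq ho ?_
  -- `z (s⁻¹ z s) = s * s`
  have h2 : u * (s⁻¹ * z * s) = (s⁻¹ * z * s) * u := by
    calc u * (s⁻¹ * z * s) = s⁻¹ * ((s * u * s⁻¹) * z) * s := by group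
      _ = s⁻¹ * (z * (s * u * s⁻¹)) * s := by rw [hz]
      _ = (s⁻¹ * z * s) * u := by group
  have h3 : z * s⁻¹ * z = s := by
    calc z * s⁻¹ * z = z * s⁻¹ * z⁻¹ := by rw [hzi]
      _ = (z * s * z⁻¹)⁻¹ := by group
      _ = s := by rw [hinv, inv_inv]
  have h4 : z * (s⁻¹ * z * s) = s * s := by
    calc z * (s⁻¹ * z * s) = (z * s⁻¹ * z) * s := by group
      _ = s * s := by rw [h3]
  rw [← h4, ← mul_assoc, h1, mul_assoc, h2, ← mul_assoc]

theorem type_two [Finite G] (h : Chart P z eta pi) (hj : j ∈ P) (hjj : j * j = 1) (hj1 : j ≠ 1) (hjz : j ≠ z)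
    {S : Subgroup G} (hS : Nat.card S = 125) (hSz : ∀ y ∈ S, y * z = z * y) (hSj : ∀ y ∈ S, y * j = j * y) :
    IsType 2 (eta j) := by
  rcases type_cases (eta j) with h1 | h1 | h1 | h1
  · exfalso
    rcases (h.eta_zero j hj).1 h1 with h2 | h2
    · exact hj1 h2
    · exact hjz h2
  · exact h1
  · exfalso
    have h2 := (h.sq_one hj).1 hjj
    rw [qf_of_type h1] at h2
    revert h2
    decide
  · exfalso
    obtain ⟨S', hS', hS2⟩ := CoFive.exists_img h hS hSz
    refine CoFive.not_four (R := S') (by rw [hS']; norm_num) h1 fun g hg => ?_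
    obtain ⟨y, hy, rfl⟩ := hS2 g hg
    rw [← h.eta_conj y j hj, hSj _ hy]
    congr 1
    group

/-- **The reduction to `Co2`.** -/
theorem meet_of_chart_aux [Finite G] (h : Chart P z eta pi) (hj : j ∈ P) (hu : eta j = cl leechU)
    (ho : orderOf s = 5) (hsj : s * j = j * s) (hinv : z * s * z⁻¹ = s⁻¹)
    {S : Subgroup G} (hS : Nat.card S = 125) (hSz : ∀ y ∈ S, y * z = z * y) (hSj : ∀ y ∈ S, y * j = j * y)
    (hSs : ∀ y ∈ S, y * s = s * y) (hc : ¬ 2 ^ 42 ∣ Nat.card (XX j)) (hco : MeetIn 2 Spor.Co2) :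
    MeetIn 2 (XX j) := by
  have h2 : IsType 2 (eta j) := by rw [hu]; exact type_leechU
  have hfin : Finite (XX j) := Quotient.finite _
  obtain ⟨ρ, hρ, -, hk⟩ := exists_rho h hj hu
  have hle : PB P j ≤ centralizer ({zb h hj} : Set (XX j)) :=
    Cfsg.Agent.LargeExtra.Nine.ToCent.le_cent (large h hj h2)
  have hodd : Odd (orderOf s) := by rw [ho]; decide
  have hsz : s * z ≠ z * s := by
    intro h3
    rw [← h3, mul_inv_cancel_right] at hinv
    have h4 : s ^ 2 = 1 := by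
      rw [pow_two]
      nth_rw 2 [hinv]
      exact mul_inv_cancel s
    have h5 := orderOf_dvd_of_pow_eq_one h4
    rw [ho] at h5
    exact absurd h5 (by decide)
  -- the order of the centraliser
  have hcard : 2 ^ 41 ∣ Nat.card (centralizer ({zb h hj} : Set (XX j))) := by
    have h3 : Nat.card ρ.ker = 2 ^ (2 * 11 + 1) := by
      rw [hk, Nat.card_congr (Subgroup.subgroupOfEquivOfLe hle).toEquiv]
      exact card_PB h hj h2
    have h4 := Subgroup.card_eq_card_quotient_mul_card_subgroup ρ.ker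
    rw [Nat.card_congr (QuotientGroup.quotientKerEquivOfSurjective ρ hρ).toEquiv, h3,
      Cfsg.Agent.Co2Type.CardCo2.card_co2] at h4
    rw [h4]
    decide
  refine of_core (H := centralizer ({zb h hj} : Set (XX j))) (not_dvd_index hcard hc) ρ hρ hco (mk j hsj)
    fun y hy hgy => ?_
  have h3 : y ∈ ρ.ker := hy
  rw [hk, Subgroup.mem_subgroupOf, mem_PB] at h3
  obtain ⟨u, huj, huP, huy⟩ := h3
  apply Subtype.ext
  show (y : XX j) = 1
  rw [← huy, mk_eq_one' (t_sq h hj h2) huj]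
  have h5 : (s * u * s⁻¹) * j = j * (s * u * s⁻¹) := conj_comm hsj huj
  have h6 : mk j hsj * (y : XX j) * (mk j hsj)⁻¹ = mk j h5 := by rw [← huy]; rfl
  rw [h6] at hgy
  have h7 := comm_z_of_comm h hj h2 h5 (mem_centralizer_singleton_iff.1 hgy)
  exact CoFive.cent_five h hj h2 hsz hsj hS hSz hSj hSs huP (comm_s h hodd hinv huP h7)

theorem meet_of_chart [Finite G] (h : Chart P z eta pi) (hj : j ∈ P) (hjj : j * j = 1) (hj1 : j ≠ 1) (hjz : j ≠ z)
    (ho : orderOf s = 5) (hsj : s * j = j * s) (hinv : z * s * z⁻¹ = s⁻¹)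
    {S : Subgroup G} (hS : Nat.card S = 125) (hSz : ∀ y ∈ S, y * z = z * y) (hSj : ∀ y ∈ S, y * j = j * y)
    (hSs : ∀ y ∈ S, y * s = s * y) (hc : ¬ 2 ^ 42 ∣ Nat.card (XX j)) (hco : MeetIn 2 Spor.Co2) :
    MeetIn 2 (XX j) := by
  obtain ⟨g, hg⟩ := IsType.trans (Or.inl rfl) (type_two h hj hjj hj1 hjz hS hSz hSj) type_leechU
  exact meet_of_chart_aux (h.smul (QuotientGroup.mk g)) hj hg ho hsj hinv hS hSz hSj hSs hc hco

end chart

open Cfsg.Agent.BpSpor.MBigModel (MG zz)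

theorem Zx_map {G : Type*} [Group G] (j : G) : (Zx j).map (centralizer ({j} : Set G)).subtype = zpowers j := by
  unfold Zx
  rw [MonoidHom.map_zpowers]
  rfl

/-- **`MeetIn 2 B`, from `Co2`.** -/
theorem meet_baby (hco : MeetIn 2 Spor.Co2) : MeetIn 2 Spor.BabyMonster := by
  have hfin := Cfsg.Agent.H848.MonsterSetup.finite
  have hfinM := Cfsg.Agent.BpSpor.MBigModel.finite
  obtain ⟨e⟩ := Cfsg.Agent.MonsterP.Equiv.equiv
  have h := Cfsg.Agent.H848.Setup.chart_transport e Cfsg.Agent.BpSpor.MBigModel.chart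
  obtain ⟨S, hS, hSL⟩ := BabyFive.exists_S
  have hj : e.symm BabyFive.j ∈ (Cfsg.Agent.MonsterX.KDone.K.ι.range).comap e.toMonoidHom := by
    rw [Subgroup.mem_comap]
    show e (e.symm BabyFive.j) ∈ _
    rw [e.apply_symm_apply]
    exact BabyFive.j_mem
  have hjj : e.symm BabyFive.j * e.symm BabyFive.j = 1 := by rw [← map_mul, BabyFive.j_sq, map_one]
  have hj1 : e.symm BabyFive.j ≠ 1 := by
    intro h1
    exact BabyFive.j_ne_one (by rwa [map_eq_one_iff _ e.symm.injective] at h1)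
  have hjz : e.symm BabyFive.j ≠ e.symm zz := fun h1 => BabyFive.j_ne_zz (e.symm.injective h1)
  have ho : orderOf (e.symm BabyFive.s) = 5 := by
    rw [MulEquiv.orderOf_eq]; exact BabyFive.orderOf_s
  have hsj : e.symm BabyFive.s * e.symm BabyFive.j = e.symm BabyFive.j * e.symm BabyFive.s := by
    rw [← map_mul, BabyFive.s_j, map_mul]
  have hinv : e.symm zz * e.symm BabyFive.s * (e.symm zz)⁻¹ = (e.symm BabyFive.s)⁻¹ := by
    rw [← map_inv, ← map_mul, ← map_mul, BabyFive.zz_s, map_inv]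
  have hS' : Nat.card (S.map e.symm.toMonoidHom) = 125 := by
    rw [← hS]
    exact (Nat.card_congr (Subgroup.equivMapOfInjective S _ e.symm.injective).toEquiv).symm
  have hcom : ∀ u : MG, (∀ y ∈ BabyFive.L, y * u = u * y) →
      ∀ y ∈ S.map e.symm.toMonoidHom, y * e.symm u = e.symm u * y := by
    rintro u hu _ ⟨y, hy, rfl⟩
    show e.symm y * e.symm u = e.symm u * e.symm y
    rw [← map_mul, hu y (hSL hy), map_mul]
  have h2 := type_two h hj hjj hj1 hjz hS' (hcom _ BabyFive.L_zz) (hcom _ BabyFive.L_j)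
  -- the isomorphism
  obtain ⟨-, -, -, -, hc, ⟨f⟩, -⟩ := Cfsg.Agent.H819.TwoACent.main h hj h2
  have hZ : Zx (e.symm BabyFive.j) = Subgroup.center ↥(centralizer ({e.symm BabyFive.j} : Set Spor.Monster)) := by
    apply Subgroup.map_injective (Subgroup.subtype_injective _)
    rw [Zx_map, hc]
  let f' : XX (e.symm BabyFive.j) ≃* Spor.BabyMonster := (QuotientGroup.quotientMulEquivOfEq hZ).trans f
  refine (meet_of_chart h hj hjj hj1 hjz ho hsj hinv hS' (hcom _ BabyFive.L_zz)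
    (hcom _ BabyFive.L_j) (hcom _ BabyFive.L_s) ?_ hco).congr f'
  rw [Nat.card_congr f'.toEquiv, Cfsg.Agent.H819.TwoACent.baby.2]
  decide

end Cfsg.Agent.H935.Meet.Baby
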