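import Cfsg.Agent.H935.Meet.Core
import Cfsg.Agent.H265.Meet.Mathieu
import Cfsg.Agent.MonsterU.CoFrameF
import Cfsg.Agent.MonsterU.CoFrameL2

/-!
# Trivial intersections of Sylow 2-subgroups: Co1 from M24

`H = 2^11:M24` is the stabiliser of the class `f0` of the standard frame; a non-trivial sign change fixes no odd
class of type 4.
-/

set_option autoImplicit false

namespace Cfsg.Agent.H935.Meet.CoOne

open Cfsg Cfsg.Spor
open Cfsg.Agent.H68.MeetB
open Cfsg.Agent.MonsterU.CoFrame Cfsg.Agent.MonsterU.CoFrameAct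
open Cfsg.Agent.SporadicA.Co0Mono
open Cfsg.Agent.SporadicA.Co1Simple
open Cfsg.Agent.SporadicStructure.Co0Base (e8 e8_coe)
open Cfsg.Agent.CoOneType.CoOneE (pr pr_surjective E mem_E)
open Cfsg.Agent.MonsterU.Lam2 (L2 cl cl_surjective cl_eq smul_cl IsType)
open Cfsg.Agent.MonsterU.CoFrameL2 (f0 pr_smul pr_smul_cl)
open Cfsg.Agent.MonsterU.CoFrameF (F toM24 toM24_surjective toM24_eq_one_iff odd_index_F)

/-- the odd vector `(5, -3, -3, 1^21)` -/
def oddFun : GolayPt → ℤ := fun p => if p = none then 5 else if p = some 0 ∨ p = some 1 then -3 else 1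

theorem oddFun_mem : oddFun ∈ leechSet :=
  mem_leechSet_of_const_mod_four oddFun 1 1 (by decide) (by decide) (by decide)

def oddVec : leechLattice := ⟨oddFun, AddSubgroup.subset_closure oddFun_mem⟩

theorem sqNorm_oddVec : sqNorm (oddVec : GolayPt → ℤ) = 64 := by
  show sqNorm oddFun = 64
  decide

theorem oddVec_not_mem : oddVec ∉ V23 := by
  intro h
  have := (mem_V23 _).1 h (some 2)
  revert this
  show ¬ (2 : ℤ) ∣ oddFun (some 2)
  decide

theorem sign_not_cong {v : leechLattice} (hv : v ∉ V23) {c : golayCode} (h : Cong (signCo0 c • v) v) :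
    c = 0 ∨ c = allOne := by
  obtain ⟨w, hw'⟩ := h
  have h1 : hw (signCo0 c • v - v) = c := hw_sign_sub hv c
  have h2 : signCo0 c • v - v = (2 : ℕ) • w := by rw [hw']; abel
  rw [h2] at h1
  have h3 := (mem_V12_iff_hw (V12_le_V23 (two_smul_mem_V12 w))).1 (two_smul_mem_V12 w)
  rw [h1] at h3
  rcases h3 with h3 | h3
  · left; exact Subtype.ext h3
  · right; exact Subtype.ext h3

theorem meet_co1 (h24 : MeetIn 2 M24) : MeetIn 2 Co1 := by
  have hfin : Finite Co1 := Nat.finite_of_card_ne_zero (by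
    rw [Cfsg.Agent.MonsterU.CoFrameF.card_Co1]; norm_num)
  obtain ⟨g, hg⟩ := IsType.trans (n := 4) (Or.inr (Or.inr rfl)) (x := cl oddVec) (y := f0)
    ⟨oddVec, by rw [sqNorm_oddVec]; norm_num, rfl⟩ ⟨e8 none, by rw [sqNorm_e8]; norm_num, rfl⟩
  refine of_core (fun h => ?_) toM24 toM24_surjective h24 (pr g) fun y hy hgy => ?_
  · obtain ⟨k, hk⟩ := odd_index_F
    omega
  · rw [toM24_eq_one_iff] at hy
    obtain ⟨c, hc⟩ := hy
    have h1 : (pr g * (y : Co1) * (pr g)⁻¹) • f0 = f0 :=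
      (Cfsg.Agent.MonsterU.CoFrameL2.mem_F_iff _).1 hgy
    have h2 : (y : Co1) • cl oddVec = cl oddVec := by
      have h3 : pr g • cl oddVec = f0 := hg
      rw [← h3, ← mul_smul, inv_mul_cancel_right, mul_smul, smul_left_cancel_iff] at h1
      exact h1
    have h4 : Cong (signCo0 c • oddVec) oddVec := by
      rw [Cfsg.Agent.MonsterU.CoFrameL2.cong_iff_cl, ← pr_smul_cl]
      have h5 : pr (signCo0 c) = (y : Co1) := hc.symm
      rw [h5]
      exact h2
    apply Subtype.ext
    have h5 : pr (signCo0 c) = (y : Co1) := hc.symm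
    rw [← h5]
    show _ = (1 : Co1)
    rw [Cfsg.Agent.MonsterU.CoFrameF.pr_eq_one]
    rcases sign_not_cong oddVec_not_mem h4 with rfl | rfl
    · left; exact signCo0_zero
    · right; rfl

/-- **Row Co1** -/
theorem meet2_Co1 {G : Type*} [Group G] [Finite G] [IsSimpleGroup G] (h : IsoCo1 G) : MeetIn 2 G := by
  obtain ⟨e⟩ := h
  exact (meet_co1 Cfsg.Agent.H265.MeetM.meetIn_M24).congr e.symm

end Cfsg.Agent.H935.Meet.CoOne
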