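import Cfsg.Agent.H935.Meet.CoTwo
import Cfsg.Agent.H265.Meet.Mathieu

/-!
# Trivial intersections of Sylow 2-subgroups: M22:2, Co2, B

`D22` is the stabiliser of a duad in `M24` (certificate in the format of helper265).
-/

set_option autoImplicit false

namespace Cfsg.Agent.H935.Meet.Duad

open Cfsg Cfsg.Agent.SporadicA.GolayBase Cfsg.Agent.SporadicA.GolayPerm Cfsg.Agent.SporadicStructure.M24El
  Cfsg.Agent.SporadicA.PermTab Cfsg.Agent.H265.MeetT Cfsg.Agent.H68.MeetB Cfsg.Agent.H265.MeetM
open Cfsg.Agent.Co2Type.Mono (okP ok_of_okP)
open Cfsg.Agent.H935.Meet.CoTwo (D22 okP_iff_mem mem_stab)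
open scoped Pointwise

def Td : List ℕ := [
  0x440a01501a0180b0020180200980f00201c0200e0140480180900a04005817,
  0x44048040060200b00f0200180280200201c0a8120140380681402603005817,
  0x2e05803012004024088030260500800d00201c070150140100780801801405800,
  0x44068130280080b00601c03c0a80800201c0280c0140400480300804805817,
  0x44068040280180b0020240200280f0160280a81000e0300480302603800817,
  0x2e05808002024054088130060100300500201c078090140500700c01003405800,
  0x58080020180500880900a034078030020280301300e0540701201001005817,
  0x280a00d00a0200380e01e040020020160440980c02c0180181501204800817]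

def Pd : List ℕ := [
  0x469569ac26226f09c8e548692c177,
  0x45241a2cf818a209eb2539b49b177,
  0xbd8d2126239d20d09dd5511e861560,
  0x45b3a0ac673ea809cac5412324977,
  0x45a4a1ac2920af5aab03b1239b837,
  0xbda0295633190c509de9551cc43560,
  0x5a02652292b5e30a8d33d5d241177,
  0x2a8d2a0ee7c0825c66cb18754c837]

def xd : ℕ := 0x2e020010140220480b015020034060070260240200b00200c0780601401407000

def yd : ℕ := 0xba0548cad5835879a48b08de6515c0

def cd' : List (List ℕ) := [[0], [0, 1], [3, 1, 2], [0, 1, 2, 4], [10, 11, 8, 7, 2], [9, 1, 2, 14, 8, 25], [39, 1, 8, 41, 2, 19, 13], [93, 44, 8, 119, 2, 96, 89, 110]]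

def td : List Test := [
  ⟨17, 8, 3, 4099, 0x420000000000000000000000000000000000000000000000000000000000000000000000000000000000000000000000000000000000000000000000000000000000000000000000000000000000000000000000000000000000000000000000000000000000000000000000000000000000000000000000000000000000000000000000000000000000000000000000000000000000000000000000000000000000000000000000000000000000000000000000000000000000000000000000000000000000000000000000000000000000000000000000000000000000000000000000000000000000000000000000000000000000000000000000000000000000000000000000000008400000000000000000120000000000000000000000000000000000000008400000000000000000120000000000000000000000000000000000000000000000000000000000000000000000000000000000000000000000000000000000000000000000000000000000000000000000000000000000000000000000000000000000000000000000000000000000000000000000000000000000000000000000000002400000000000000000000000000000000000000000000000000000000002400000000000000000000000000000000000000000000008400000000000000000000000000000000000000000000000000000⟩]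

theorem of_okP (P : ℕ) (h : okP P = true) : ∃ hP : isPerm P = true, permOf P hP ∈ D22 := by
  have h1 := (okP_iff_mem (ok_of_okP h)).1 h
  rw [coe_el (ok_of_okP h)] at h1
  exact ⟨_, h1⟩

theorem mem_M22 {σ : Equiv.Perm GolayPt} : σ ∈ Spor.M22 ↔ σ ∈ M24 ∧ σ none = none ∧ σ (some 0) = some 0 := by
  constructor
  · rintro ⟨⟨h1, h2⟩, h3⟩
    exact ⟨h1, h2, h3⟩
  · rintro ⟨h1, h2, h3⟩
    exact ⟨⟨h1, h2⟩, h3⟩

theorem mem_D22 {σ : Equiv.Perm GolayPt} : σ ∈ D22 ↔
    σ ∈ M24 ∧ ((σ none = none ∧ σ (some 0) = some 0) ∨ (σ none = some 0 ∧ σ (some 0) = none)) := by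
  rw [← mem_stab]
  exact Iff.rfl

theorem M22_le : Spor.M22 ≤ D22 := fun σ h => by
  rw [mem_M22] at h
  exact mem_D22.2 ⟨h.1, Or.inl h.2⟩

theorem card_D22 : ¬ 2 ^ 9 ∣ Nat.card D22 := by
  have h1 : Nat.card (Spor.M22.subgroupOf D22) = 443520 := by
    rw [Nat.card_congr (Subgroup.subgroupOfEquivOfLe M22_le).toEquiv]
    exact NotCT.Orders.m22 ⟨MulEquiv.refl _⟩
  have h2 := (Spor.M22.subgroupOf D22).card_mul_index
  rw [h1] at h2
  have h3 : (Spor.M22.subgroupOf D22).index = 1 ∨ (Spor.M22.subgroupOf D22).index = 2 := by
    by_cases h : ∃ a : D22, (a : Equiv.Perm GolayPt) none = some 0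
    · right
      obtain ⟨a, ha⟩ := h
      rw [Subgroup.index_eq_two_iff]
      refine ⟨a, fun b => ?_⟩
      have ha' := mem_D22.1 a.2
      have hb' := mem_D22.1 b.2
      have ha2 : (a : Equiv.Perm GolayPt) (some 0) = none := by
        rcases ha'.2 with h | h
        · rw [h.1] at ha; exact absurd ha (by decide)
        · exact h.2
      have h4 : b ∈ Spor.M22.subgroupOf D22 ↔ (b : Equiv.Perm GolayPt) none = none := by
        rw [Subgroup.mem_subgroupOf, mem_M22]
        constructor
        · exact fun h => h.2.1
        · intro h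
          rcases hb'.2 with h5 | h5
          · exact ⟨hb'.1, h5⟩
          · rw [h5.1] at h; exact absurd h (by decide)
      have h5 : b * a ∈ Spor.M22.subgroupOf D22 ↔ (b : Equiv.Perm GolayPt) none = some 0 := by
        rw [Subgroup.mem_subgroupOf, mem_M22]
        have e1 : ((b * a : D22) : Equiv.Perm GolayPt) none = (b : Equiv.Perm GolayPt) (some 0) := by
          show (b : Equiv.Perm GolayPt) ((a : Equiv.Perm GolayPt) none) = _
          rw [ha]
        have e2 : ((b * a : D22) : Equiv.Perm GolayPt) (some 0) = (b : Equiv.Perm GolayPt) none := by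
          show (b : Equiv.Perm GolayPt) ((a : Equiv.Perm GolayPt) (some 0)) = _
          rw [ha2]
        rw [e1, e2]
        constructor
        · exact fun h => h.2.2
        · intro h
          rcases hb'.2 with h6 | h6
          · rw [h6.1] at h; exact absurd h (by decide)
          · exact ⟨(mem_D22.1 (b * a).2).1, h6.2, h6.1⟩
      rw [h4, h5]
      rcases hb'.2 with h6 | h6
      · right
        refine ⟨h6.1, ?_⟩
        rw [h6.1]; decide
      · left
        refine ⟨h6.1, ?_⟩
        rw [h6.1]; decide
    · left
      rw [Subgroup.index_eq_one, Subgroup.subgroupOf_eq_top]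
      intro b hb
      have hb' := mem_D22.1 hb
      rw [mem_M22]
      rcases hb'.2 with h5 | h5
      · exact ⟨hb'.1, h5⟩
      · exact absurd ⟨⟨b, hb⟩, h5.1⟩ h
  intro h4
  rw [← h2] at h4
  rcases h3 with h3 | h3 <;> rw [h3] at h4 <;> revert h4 <;> decide

theorem meetIn_D22 : MeetIn 2 D22 :=
  meetIn_golay of_okP Pd Td xd yd (by decide +kernel) (by decide +kernel) 256 (by decide +kernel) cd' td
    (by decide +kernel) (by decide +kernel) (by decide +kernel) (by decide +kernel) card_D22

/-- **Row Co2** -/
theorem meet2_Co2 {G : Type*} [Group G] [Finite G] [IsSimpleGroup G] (h : Spor.IsoCo2 G) : MeetIn 2 G := by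
  obtain ⟨e⟩ := h
  exact (CoTwo.meet_co2 meetIn_D22).congr e.symm

end Cfsg.Agent.H935.Meet.Duad
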