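import Cfsg.Agent.H935.Meet.Base

/-!
# Trivial intersections of Sylow 2-subgroups: the core lemma (helper903, helper935)

* `of_core` : `H` of odd index, `π : H → K` onto, `MeetIn 2 K`, some conjugate of `ker π` meets `H` trivially.
-/

set_option autoImplicit false

namespace Cfsg.Agent.H935.Meet

open Subgroup Cfsg.Agent.H68.MeetB

variable {T : Type*} [Group T]

/-- **The core lemma.** -/
theorem of_core [Finite T] {H : Subgroup T} (hi : ¬ 2 ∣ H.index) {K : Type*} [Group K] (π : ↥H →* K)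
    (hπ : Function.Surjective π) (hK : MeetIn 2 K) (g : T)
    (hg : ∀ y : ↥H, π y = 1 → g * (y : T) * g⁻¹ ∈ H → y = 1) : MeetIn 2 T := by
  have hp : Fact (Nat.Prime 2) := ⟨Nat.prime_two⟩
  obtain ⟨S⟩ : Nonempty (Sylow 2 ↥H) := inferInstance
  let P : Subgroup T := (S : Subgroup ↥H).map H.subtype
  have hP : IsPGroup 2 P := S.isPGroup'.map _
  have hPH : P ≤ H := by
    rintro _ ⟨s, -, rfl⟩
    exact s.2
  have hPi : ¬ 2 ∣ P.index := by
    have h1 : P.index = (S : Subgroup ↥H).index * H.index := by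
      rw [Subgroup.index_map, (MonoidHom.ker_eq_bot_iff _).2 H.subtype_injective, sup_bot_eq, Subgroup.range_subtype]
    rw [h1]
    intro h
    rcases Nat.prime_two.dvd_mul.1 h with h | h
    · exact S.not_dvd_index h
    · exact hi h
  -- the elements of `H` conjugated into `P` by `g`
  let D : Subgroup ↥H := (P.comap (MulAut.conj g).toMonoidHom).subgroupOf H
  have hDmem : ∀ y : ↥H, y ∈ D ↔ g * (y : T) * g⁻¹ ∈ P := fun y => Iff.rfl
  have hD : IsPGroup 2 D :=
    (hP.comap_of_injective _ (MulAut.conj g).injective).comap_of_injective _ H.subtype_injective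
  obtain ⟨S0, hS0⟩ := hD.exists_le_sylow
  obtain ⟨c, hc⟩ := MulAction.exists_smul_eq ↥H S S0
  obtain ⟨k, hk⟩ := hK ((S0 : Subgroup ↥H).map π) (S0.isPGroup'.map π)
  obtain ⟨h, rfl⟩ := hπ k
  have hcS : ∀ s ∈ (S : Subgroup ↥H), c * s * c⁻¹ ∈ (S0 : Subgroup ↥H) := by
    intro s hs
    rw [← hc, Sylow.smul_def]
    exact (mem_smul_pointwise_iff_exists _ _ _).2 ⟨s, hs, rfl⟩
  refine MeetIn.of_one P hP hPi ⟨g * (h : T)⁻¹ * (c : T), fun y hy hxy => ?_⟩
  obtain ⟨s, hs, rfl⟩ := hy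
  change g * (h : T)⁻¹ * (c : T) * (s : T) * (g * (h : T)⁻¹ * (c : T))⁻¹ ∈ P at hxy
  -- `w = h⁻¹ c s c⁻¹ h`
  set w : ↥H := h⁻¹ * (c * s * c⁻¹) * h with hw
  have h1 : w ∈ D := by
    rw [hDmem]
    have h2 : g * (w : T) * g⁻¹ = g * (h : T)⁻¹ * (c : T) * (s : T) * (g * (h : T)⁻¹ * (c : T))⁻¹ := by
      rw [hw]
      push_cast
      group
    rw [h2]
    exact hxy
  have h2 : π w = 1 := by
    refine hk (π w) ⟨w, hS0 h1, rfl⟩ ⟨c * s * c⁻¹, hcS s hs, ?_⟩
    rw [hw]
    simp only [map_mul, map_inv]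
    group
  have h3 : w = 1 := hg w h2 (hPH ((hDmem w).1 h1))
  have h4 : s = 1 := by
    have h5 : s = c⁻¹ * (h * w * h⁻¹) * c := by rw [hw]; group
    rw [h5, h3]
    group
  rw [h4]
  exact map_one _

/-- version with a subgroup `O` containing the kernel -/
theorem of_core' [Finite T] {H O : Subgroup T} (hi : ¬ 2 ∣ H.index) {K : Type*} [Group K] (π : ↥H →* K)
    (hπ : Function.Surjective π) (hK : MeetIn 2 K) (hO : ∀ y : ↥H, π y = 1 → (y : T) ∈ O) (g : T)
    (hg : ∀ y ∈ O, g * y * g⁻¹ ∈ H → y = 1) : MeetIn 2 T :=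
  of_core hi π hπ hK g fun y hy hgy => Subtype.ext (hg y (hO y hy) hgy)

/-- `C(z)` has odd index, `MeetIn 2 (C(z) / ⟨z⟩)` and `z` has a conjugate outside `C(z)`. -/
theorem of_cent [Finite T] {z : T} (hi : ¬ 2 ∣ (centralizer ({z} : Set T)).index) {K : Type*} [Group K]
    (π : ↥(centralizer ({z} : Set T)) →* K) (hπ : Function.Surjective π) (hK : MeetIn 2 K)
    (hker : ∀ y : ↥(centralizer ({z} : Set T)), π y = 1 → (y : T) = 1 ∨ (y : T) = z) (g : T)
    (hg : (g * z * g⁻¹) * z ≠ z * (g * z * g⁻¹)) : MeetIn 2 T :=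
  of_core hi π hπ hK g fun y hy hgy => by
    rcases hker y hy with h | h
    · exact Subtype.ext h
    · rw [h] at hgy
      exact absurd (mem_centralizer_singleton_iff.1 hgy) hg

end Cfsg.Agent.H935.Meet
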